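import Groth.Prelude.Def_AlgGrp
import Mathlib.CategoryTheory.Monoidal.Cartesian.Grp
import Mathlib.CategoryTheory.Monoidal.Cartesian.CommGrp_

/-! Kernels of homomorphisms of group schemes, on points. -/

universe u

open CategoryTheory MonoidalCategory CartesianMonoidalCategory MonObj AlgebraicGeometry

namespace Groth.Agent.GrpKer29

variable {S : Scheme.{u}} {N G Q : Over S} [GrpObj Q] {i : N ⟶ G} {q : G ⟶ Q}

theorem comp_eq_one (h : AlgGrp.IsKernel i q) : i ≫ q = 1 := by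
  rw [h.w, Hom.one_def]

theorem mono (h : AlgGrp.IsKernel i q) : Mono i :=
  ⟨fun _ _ e => h.hom_ext e (toUnit_unique _ _)⟩

theorem exists_lift (h : AlgGrp.IsKernel i q) {T : Over S} (x : T ⟶ G) (hx : x ≫ q = 1) :
    ∃ t : T ⟶ N, t ≫ i = x :=
  ⟨h.lift x (toUnit T) (by rw [hx, Hom.one_def]), h.lift_fst _ _ _⟩

theorem comp_one {T : Over S} (f : T ⟶ G) : f ≫ (1 : G ⟶ Q) = 1 := by
  simp only [Hom.one_def, ← Category.assoc]
  congr 1
  exact toUnit_unique _ _

theorem of_points (hm : Mono i) (hc : i ≫ q = 1)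
    (hl : ∀ (T : Over S) (x : T ⟶ G), x ≫ q = 1 → ∃ t : T ⟶ N, t ≫ i = x) : AlgGrp.IsKernel i q := by
  refine ⟨⟨by rw [hc, Hom.one_def]⟩, ⟨Limits.PullbackCone.IsLimit.mk _
    (fun s => (hl _ s.fst (by rw [s.condition, Hom.one_def]; congr 1; exact toUnit_unique _ _)).choose)
    (fun s => (hl _ s.fst (by rw [s.condition, Hom.one_def]; congr 1; exact toUnit_unique _ _)).choose_spec)
    (fun s => toUnit_unique _ _) (fun s m h1 _ => ?_)⟩⟩
  rw [← cancel_mono i, h1,
    (hl _ s.fst (by rw [s.condition, Hom.one_def]; congr 1; exact toUnit_unique _ _)).choose_spec]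

theorem pow_comp {T : Over S} [GrpObj G] [IsMonHom q] (x : T ⟶ G) (n : ℕ) : (x ^ n) ≫ q = (x ≫ q) ^ n := by
  induction n with
  | zero => simp [MonObj.one_comp]
  | succ n ih => rw [pow_succ, MonObj.mul_comp, ih, pow_succ]

theorem comp_id_pow [GrpObj G] {T : Over S} (x : T ⟶ G) (n : ℕ) : x ≫ (𝟙 G ^ n : G ⟶ G) = x ^ n := by
  induction n with
  | zero => simp [MonObj.comp_one]
  | succ n ih => rw [pow_succ, MonObj.comp_mul, ih, Category.comp_id, pow_succ]

end Groth.Agent.GrpKer29
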