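import Mathlib

/-! A generating submodule over a local base contains a basis, over a semilocal ring. -/

universe u

namespace Groth.Agent.GrpKer29.SemilocalBasis

variable {B M : Type u} [CommRing B] [IsLocalRing B] [Infinite (IsLocalRing.ResidueField B)]
  [AddCommGroup M] [Module B M]

theorem exists_avoid {ι : Type*} (N : Submodule B M) (W : ι → Submodule B M) (s : Finset ι)
    (h : ∀ i ∈ s, ¬ N ≤ W i) : ∃ x ∈ N, ∀ i ∈ s, x ∉ W i := by
  classical
  induction s using Finset.induction with
  | empty => exact ⟨0, zero_mem _, by simp⟩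
  | insert a s ha ih =>
    obtain ⟨x, hx, hxs⟩ := ih (fun i hi => h i (Finset.mem_insert_of_mem hi))
    obtain ⟨y, hy, hya⟩ := SetLike.not_le_iff_exists.mp (h a (Finset.mem_insert_self a s))
    by_cases hxa : x ∈ W a
    · let e : ℕ ↪ IsLocalRing.ResidueField B := Infinite.natEmbedding _
      choose b hb using fun n => IsLocalRing.residue_surjective (e n)
      by_contra hcon
      push Not at hcon
      have hall : ∀ t : ℕ, ∃ i : {i // i ∈ s}, y + b t • x ∈ W i.1 := by
        intro t
        obtain ⟨i, hi, hmem⟩ := hcon (y + b t • x) (add_mem hy (N.smul_mem _ hx))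
        rcases Finset.mem_insert.mp hi with rfl | hi
        · exact absurd ((Submodule.add_mem_iff_left _ ((W i).smul_mem _ hxa)).mp hmem) hya
        · exact ⟨⟨i, hi⟩, hmem⟩
      choose g hg using hall
      obtain ⟨t, t', hne, heq⟩ := Finite.exists_ne_map_eq_of_infinite g
      have hsub := sub_mem (hg t) (heq ▸ hg t')
      rw [add_sub_add_left_eq_sub, ← sub_smul] at hsub
      have hu : IsUnit (b t - b t') := by
        rw [← IsLocalRing.residue_ne_zero_iff_isUnit, map_sub, hb, hb, sub_ne_zero]
        exact e.injective.ne hne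
      obtain ⟨v, hv⟩ := hu
      apply hxs (g t).1 (g t).2
      rw [heq] at hsub ⊢
      have := (W (g t').1).smul_mem (↑v⁻¹ : B) hsub
      rwa [← hv, smul_smul, v.inv_mul, one_smul] at this
    · exact ⟨x, hx, fun i hi => by rcases Finset.mem_insert.mp hi with rfl | hi <;> [exact hxa; exact hxs i hi]⟩

variable {A : Type u} [CommRing A] [Algebra B A] [Module A M] [IsScalarTower B A M] [Finite (MaximalSpectrum A)]

theorem eq_top_of_sup_eq_top [Module.Finite A M] (Q : Submodule A M)
    (h : ∀ P : Ideal A, P.IsMaximal → Q ⊔ P • (⊤ : Submodule A M) = ⊤) : Q = ⊤ := by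
  have hcol : Q.colon (⊤ : Submodule A M) = ⊤ := by
    by_contra hne
    obtain ⟨P, hP, hle⟩ := Ideal.exists_le_maximal _ hne
    have hfg : (⊤ : Submodule A (M ⧸ Q)).FG := Module.Finite.fg_top
    have hsmul : (⊤ : Submodule A (M ⧸ Q)) ≤ P • ⊤ := by
      rintro z -
      obtain ⟨w, rfl⟩ := Q.mkQ_surjective z
      have hw : w ∈ Q ⊔ P • (⊤ : Submodule A M) := by rw [h P hP]; trivial
      obtain ⟨a, ha, b, hb, rfl⟩ := Submodule.mem_sup.mp hw
      rw [map_add, Submodule.mkQ_apply, (Submodule.Quotient.mk_eq_zero Q).mpr ha, zero_add]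
      have h2 : Q.mkQ b ∈ (P • (⊤ : Submodule A M)).map Q.mkQ := Submodule.mem_map_of_mem hb
      rw [Submodule.map_smul''] at h2
      exact Submodule.smul_mono le_rfl le_top h2
    obtain ⟨r, hr1, hr2⟩ := Submodule.exists_sub_one_mem_and_smul_eq_zero_of_fg_of_le_smul P _ hfg hsmul
    have hrP : r ∈ P := hle (Submodule.mem_colon.mpr fun w _ => by
      have := hr2 (Q.mkQ w) trivial
      rwa [← map_smul, Submodule.mkQ_apply, Submodule.Quotient.mk_eq_zero] at this)
    exact hP.ne_top ((Ideal.eq_top_iff_one _).mpr (by simpa using sub_mem hrP hr1))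
  rw [eq_top_iff]
  intro w _
  have h1 : (1 : A) ∈ Q.colon (⊤ : Submodule A M) := by rw [hcol]; trivial
  simpa using Submodule.mem_colon.mp h1 w trivial

theorem exists_basis
    [Module.Free A M] [Module.Finite A M] [Nontrivial A]
    (N : Submodule B M) (hN : Submodule.span A (N : Set M) = ⊤) :
    ∃ b : Module.Basis (Fin (Module.finrank A M)) A M, ∀ i, b i ∈ N := by
  classical
  let e := Module.finBasis A M
  let π : ∀ P : MaximalSpectrum A, M →ₗ[A] (Fin (Module.finrank A M) → A ⧸ P.asIdeal) := fun P =>
    LinearMap.pi fun i => (Ideal.Quotient.mkₐ A P.asIdeal).toLinearMap.comp (e.coord i)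
  have hπs : ∀ P, Function.Surjective (π P) := by
    intro P w
    choose a ha using fun i => Ideal.Quotient.mk_surjective (w i)
    refine ⟨∑ i, a i • e i, funext fun i => ?_⟩
    simp only [π, LinearMap.pi_apply, LinearMap.comp_apply, Module.Basis.coord_apply, e.repr_sum_self]
    exact ha i
  have hπk : ∀ P x, π P x = 0 → x ∈ P.asIdeal • (⊤ : Submodule A M) := by
    intro P x hx
    rw [← e.sum_repr x]
    refine sum_mem fun i _ => Submodule.smul_mem_smul ?_ trivial
    exact Ideal.Quotient.eq_zero_iff_mem.mp (congrFun hx i)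
  suffices ∀ j ≤ Module.finrank A M, ∃ f : Fin j → M, (∀ i, f i ∈ N) ∧
      ∀ P : MaximalSpectrum A, LinearIndependent (A ⧸ P.asIdeal) fun i => π P (f i) by
    obtain ⟨f, hfN, hfi⟩ := this _ le_rfl
    have htop : Submodule.span A (Set.range f) = ⊤ := by
      refine eq_top_of_sup_eq_top _ fun P hP => ?_
      rw [eq_top_iff]
      intro x _
      let Q : MaximalSpectrum A := ⟨P, hP⟩
      letI : Field (A ⧸ Q.asIdeal) := Ideal.Quotient.field Q.asIdeal
      have hspan := (hfi Q).span_eq_top_of_card_eq_finrank' (by simp)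
      have hx : π Q x ∈ Submodule.span (A ⧸ Q.asIdeal) (Set.range fun i => π Q (f i)) := by
        rw [hspan]; trivial
      obtain ⟨c, hc⟩ := (Submodule.mem_span_range_iff_exists_fun _).mp hx
      choose a ha using fun i => Ideal.Quotient.mk_surjective (c i)
      rw [show x = ∑ i, a i • f i + (x - ∑ i, a i • f i) by abel]
      refine add_mem (Submodule.mem_sup_left (sum_mem fun i _ => Submodule.smul_mem _ _
        (Submodule.subset_span ⟨i, rfl⟩))) (Submodule.mem_sup_right (hπk Q _ ?_))
      rw [map_sub, map_sum, ← hc, sub_eq_zero]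
      refine Finset.sum_congr rfl fun i _ => ?_
      rw [map_smul, ← ha i]
      rfl
    exact ⟨basisOfTopLeSpanOfCardEqFinrank f htop.ge (by simp),
      fun i => by rw [coe_basisOfTopLeSpanOfCardEqFinrank]; exact hfN i⟩
  intro j
  induction j with
  | zero => exact fun _ => ⟨Fin.elim0, fun i => i.elim0, fun P => linearIndependent_empty_type⟩
  | succ j ih =>
    intro hj
    obtain ⟨f, hfN, hfi⟩ := ih (by omega)
    let W : MaximalSpectrum A → Submodule B M := fun P =>
      (((Submodule.span (A ⧸ P.asIdeal) (Set.range fun i => π P (f i))).restrictScalars A).comap (π P)).restrictScalars B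
    have : Fintype (MaximalSpectrum A) := Fintype.ofFinite _
    have hW : ∀ P ∈ (Finset.univ : Finset (MaximalSpectrum A)), ¬ N ≤ W P := by
      intro P _ hle
      letI : Field (A ⧸ P.asIdeal) := Ideal.Quotient.field P.asIdeal
      have htop : (⊤ : Submodule A M) ≤
          ((Submodule.span (A ⧸ P.asIdeal) (Set.range fun i => π P (f i))).restrictScalars A).comap (π P) := by
        rw [← hN, Submodule.span_le]
        exact hle
      have hfull : Submodule.span (A ⧸ P.asIdeal) (Set.range fun i => π P (f i)) = ⊤ := by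
        rw [eq_top_iff]
        intro w _
        obtain ⟨x, rfl⟩ := hπs P w
        exact htop (Submodule.mem_top (x := x))
      have h := finrank_range_le_card (R := A ⧸ P.asIdeal) (fun i => π P (f i))
      rw [Set.finrank, hfull, finrank_top] at h
      simp at h
      omega
    obtain ⟨x, hxN, hx⟩ := exists_avoid N W _ hW
    refine ⟨Fin.snoc f x, fun i => ?_, fun P => ?_⟩
    · induction i using Fin.lastCases with
      | last => simpa using hxN
      | cast i => simpa using hfN i
    · letI : Field (A ⧸ P.asIdeal) := Ideal.Quotient.field P.asIdeal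
      have he : (fun i => π P ((Fin.snoc f x : Fin (j + 1) → M) i)) = Fin.snoc (fun i => π P (f i)) (π P x) := by
        funext i
        induction i using Fin.lastCases with
        | last => simp
        | cast i => simp
      rw [he, linearIndependent_finSnoc]
      exact ⟨hfi P, fun h => hx P (Finset.mem_univ P) h⟩

end Groth.Agent.GrpKer29.SemilocalBasis
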