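import Mathlib

/-! Additive truncated polynomials in characteristic `p`. -/

universe u

open Polynomial

namespace Groth.Agent.GrpKer29.TruncPoly

variable {p : ℕ} [hp : Fact p.Prime] {A : Type u} [CommRing A] [CharP A p]

theorem coeff_sum (n i j : ℕ) (hij : i + j = n) :
    MvPolynomial.coeff (Finsupp.single (0 : Fin 2) i + Finsupp.single 1 j)
      ((MvPolynomial.X 0 + MvPolynomial.X 1 : MvPolynomial (Fin 2) A) ^ n) = (n.choose i : A) := by
  rw [add_pow, MvPolynomial.coeff_sum, Finset.sum_eq_single i]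
  · rw [← map_natCast (MvPolynomial.C (σ := Fin 2) (R := A)), mul_comm, MvPolynomial.X_pow_eq_monomial,
      MvPolynomial.X_pow_eq_monomial, MvPolynomial.monomial_mul, MvPolynomial.coeff_C_mul,
      MvPolynomial.coeff_monomial]
    simp [show n - i = j by omega]
  · intro b hb hbi
    rw [← map_natCast (MvPolynomial.C (σ := Fin 2) (R := A)), mul_comm, MvPolynomial.X_pow_eq_monomial,
      MvPolynomial.X_pow_eq_monomial, MvPolynomial.monomial_mul, MvPolynomial.coeff_C_mul,
      MvPolynomial.coeff_monomial, if_neg, mul_zero]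
    intro h
    have := DFunLike.congr_fun h 0
    simp at this
    exact hbi this
  · intro h
    exact absurd (Finset.mem_range.mpr (by omega)) h

theorem coeff_add_aeval (q : A[X]) (i j : ℕ) :
    MvPolynomial.coeff (Finsupp.single (0 : Fin 2) i + Finsupp.single 1 j)
      (aeval (MvPolynomial.X 0 + MvPolynomial.X 1 : MvPolynomial (Fin 2) A) q) =
        q.coeff (i + j) * ((i + j).choose i : A) := by
  induction q using Polynomial.induction_on' with
  | add a b ha hb => simp [ha, hb, add_mul]
  | monomial n a =>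
    rw [aeval_monomial, MvPolynomial.algebraMap_eq, MvPolynomial.coeff_C_mul, Polynomial.coeff_monomial]
    by_cases h : n = i + j
    · rw [if_pos h, h, coeff_sum (i + j) i j rfl]
    · rw [if_neg h, zero_mul]
      have hh := (MvPolynomial.isHomogeneous_X A (0 : Fin 2)).add (MvPolynomial.isHomogeneous_X A 1)
      rw [(hh.pow n).coeff_eq_zero (by simp [Finsupp.degree_eq_sum, Fin.sum_univ_two]; omega), mul_zero]

theorem coeff_aeval_X (q : A[X]) (s t : Fin 2) (hst : s ≠ t) (i j : ℕ) :
    MvPolynomial.coeff (Finsupp.single s i + Finsupp.single t j)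
      (aeval (MvPolynomial.X s : MvPolynomial (Fin 2) A) q) = if j = 0 then q.coeff i else 0 := by
  induction q using Polynomial.induction_on' with
  | add a b ha hb => rw [map_add, MvPolynomial.coeff_add, ha, hb]; split_ifs <;> simp
  | monomial n a =>
    rw [aeval_monomial, MvPolynomial.algebraMap_eq, MvPolynomial.coeff_C_mul, MvPolynomial.coeff_X_pow,
      Polynomial.coeff_monomial]
    by_cases hj : j = 0
    · subst hj
      by_cases h : n = i
      · simp [h]
      · rw [if_pos rfl, if_neg h, if_neg, mul_zero]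
        intro e
        apply h
        simpa using DFunLike.congr_fun e s
    · rw [if_neg hj, if_neg, mul_zero]
      intro e
      apply hj
      simpa [hst] using (DFunLike.congr_fun e t).symm

theorem coeff_of_mem {f : MvPolynomial (Fin 2) A} (N : ℕ)
    (hf : f ∈ Ideal.span ({MvPolynomial.X 0 ^ N, MvPolynomial.X 1 ^ N} : Set (MvPolynomial (Fin 2) A)))
    (i j : ℕ) (hi : i < N) (hj : j < N) :
    MvPolynomial.coeff (Finsupp.single (0 : Fin 2) i + Finsupp.single 1 j) f = 0 := by
  classical
  obtain ⟨a, b, rfl⟩ := Ideal.mem_span_pair.mp hf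
  rw [MvPolynomial.coeff_add, MvPolynomial.X_pow_eq_monomial, MvPolynomial.X_pow_eq_monomial,
    MvPolynomial.coeff_mul_monomial', MvPolynomial.coeff_mul_monomial', if_neg, if_neg, add_zero]
  · intro h; have := h 1; simp at this; omega
  · intro h; have := h 0; simp at this; omega

theorem isUnit_cast (m : ℕ) (h : ¬ p ∣ m) : IsUnit (m : A) := by
  rw [CharP.isUnit_natCast_iff hp.out]
  exact h

theorem additive (a₁ ap : A) :
    Polynomial.aeval (MvPolynomial.X 0 + MvPolynomial.X 1 : MvPolynomial (Fin 2) A)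
        (C a₁ * X + C ap * X ^ p : A[X]) -
      aeval (MvPolynomial.X 0 : MvPolynomial (Fin 2) A) (C a₁ * X + C ap * X ^ p : A[X]) -
      aeval (MvPolynomial.X 1 : MvPolynomial (Fin 2) A) (C a₁ * X + C ap * X ^ p : A[X]) = 0 := by
  simp only [map_add, map_mul, aeval_C, aeval_X, map_pow, add_pow_char]
  ring

theorem coeff_eq_zero {q : A[X]} (hq : q.natDegree < p ^ 2)
    (h : Polynomial.aeval (MvPolynomial.X 0 + MvPolynomial.X 1 : MvPolynomial (Fin 2) A) q -
            Polynomial.aeval (MvPolynomial.X 0 : MvPolynomial (Fin 2) A) q -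
            Polynomial.aeval (MvPolynomial.X 1 : MvPolynomial (Fin 2) A) q ∈
          Ideal.span ({MvPolynomial.X 0 ^ p ^ 2, MvPolynomial.X 1 ^ p ^ 2} : Set (MvPolynomial (Fin 2) A)))
    (n : ℕ) (h1 : n ≠ 1) (hnp : n ≠ p) : q.coeff n = 0 := by
  by_cases hn : p ^ 2 ≤ n
  · exact Polynomial.coeff_eq_zero_of_natDegree_lt (by omega)
  have key : ∀ i j, i < p ^ 2 → j < p ^ 2 → q.coeff (i + j) * ((i + j).choose i : A) -
      (if j = 0 then q.coeff i else 0) - (if i = 0 then q.coeff j else 0) = 0 := by
    intro i j hi hj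
    have := coeff_of_mem _ h i j hi hj
    rw [MvPolynomial.coeff_sub, MvPolynomial.coeff_sub, coeff_add_aeval,
      coeff_aeval_X q 0 1 (by decide)] at this
    rw [add_comm (Finsupp.single (0 : Fin 2) i), coeff_aeval_X q 1 0 (by decide)] at this
    exact this
  rcases Nat.eq_zero_or_pos n with rfl | hpos
  · have := key 0 0 (by omega) (by omega)
    simpa using this
  have hp2 := hp.out.two_le
  by_cases hd : p ∣ n
  · obtain ⟨b, rfl⟩ := hd
    have hb : b < p := by
      by_contra hb
      apply hn
      calc p ^ 2 = p * p := sq p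
        _ ≤ p * b := Nat.mul_le_mul_left p (by omega)
    have hb2 : 2 ≤ b := by
      by_contra hb2
      interval_cases b <;> simp at hpos hnp
    have hle : p * 2 ≤ p * b := Nat.mul_le_mul_left p hb2
    have := key p (p * b - p) (by rw [sq]; nlinarith) (by omega)
    rw [show p + (p * b - p) = p * b by omega, if_neg (by omega), if_neg (by omega), sub_zero, sub_zero] at this
    refine (isUnit_cast _ ?_).mul_left_eq_zero.mp this
    intro hdiv
    have hc := Choose.choose_modEq_choose_mod_mul_choose_div_nat (n := p * b) (k := p) (p := p)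
    rw [Nat.mul_mod_right, Nat.mod_self, Nat.mul_div_cancel_left _ hp.out.pos, Nat.div_self hp.out.pos,
      Nat.choose_zero_right, Nat.choose_one_right, one_mul] at hc
    have := (Nat.modEq_zero_iff_dvd.mp (hc.symm.trans (Nat.modEq_zero_iff_dvd.mpr hdiv)))
    have := Nat.le_of_dvd (by omega) this
    omega
  · have := key 1 (n - 1) (by omega) (by omega)
    rw [show 1 + (n - 1) = n by omega, if_neg (by omega), if_neg one_ne_zero, sub_zero, sub_zero,
      Nat.choose_one_right] at this
    exact (isUnit_cast _ hd).mul_left_eq_zero.mp this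

theorem iff_additive (q : A[X]) (hq : q.natDegree < p ^ 2) :
    Polynomial.aeval (MvPolynomial.X 0 + MvPolynomial.X 1 : MvPolynomial (Fin 2) A) q -
            Polynomial.aeval (MvPolynomial.X 0 : MvPolynomial (Fin 2) A) q -
            Polynomial.aeval (MvPolynomial.X 1 : MvPolynomial (Fin 2) A) q ∈
          Ideal.span ({MvPolynomial.X 0 ^ p ^ 2, MvPolynomial.X 1 ^ p ^ 2} : Set (MvPolynomial (Fin 2) A)) ↔
        ∃ a₁ ap : A, q = Polynomial.C a₁ * X + Polynomial.C ap * X ^ p := by
  constructor
  · intro h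
    refine ⟨q.coeff 1, q.coeff p, ?_⟩
    ext n
    have hp1 := hp.out.one_lt
    rw [coeff_add, coeff_C_mul, coeff_C_mul, coeff_X, coeff_X_pow]
    by_cases h1 : n = 1
    · subst h1
      rw [if_pos rfl, if_neg (by omega)]
      simp
    · by_cases h2 : n = p
      · subst h2
        rw [if_pos rfl, if_neg (by omega)]
        simp
      · rw [if_neg (Ne.symm h1), if_neg h2, coeff_eq_zero hq h n h1 h2]
        simp
  · rintro ⟨a₁, ap, rfl⟩
    rw [additive]
    exact zero_mem _

theorem bijective_iff_aux (a₁ ap : A) (I : Ideal A[X]) (hIdef : I = Ideal.span ({X ^ p ^ 2} : Set A[X]))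
    (φ : (A[X] ⧸ I) →ₐ[A] (A[X] ⧸ I))
    (hφ : φ (Ideal.Quotient.mk I X) =
        Ideal.Quotient.mk I (Polynomial.C a₁ * X + Polynomial.C ap * X ^ p)) :
    Function.Bijective φ ↔ IsUnit a₁ := by
  have hp2 := hp.out.two_le
  constructor
  · intro hb
    obtain ⟨z, hz⟩ := hb.2 (Ideal.Quotient.mk I X)
    obtain ⟨z, rfl⟩ := Ideal.Quotient.mk_surjective z
    have hI : ∀ a ∈ I, (aeval (R := A) (DualNumber.eps : DualNumber A)) a = 0 := by
      intro a ha
      obtain ⟨r, rfl⟩ := Ideal.mem_span_singleton.mp (hIdef ▸ ha)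
      rw [map_mul, map_pow, aeval_X, show p ^ 2 = 2 + (p ^ 2 - 2) by
        have : 2 * 2 ≤ p ^ 2 := by rw [sq]; exact Nat.mul_le_mul hp2 hp2
        omega, pow_add, sq, DualNumber.eps_mul_eps, zero_mul, zero_mul]
    let χ : (A[X] ⧸ I) →ₐ[A] DualNumber A := Ideal.Quotient.liftₐ I (aeval (DualNumber.eps : DualNumber A)) hI
    have hχ : ∀ a, χ (Ideal.Quotient.mk I a) = aeval (DualNumber.eps : DualNumber A) a := fun a => rfl
    have hy : χ (φ (Ideal.Quotient.mk I X)) = a₁ • DualNumber.eps := by
      rw [hφ, hχ]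
      simp only [map_add, map_mul, aeval_C, aeval_X, map_pow]
      rw [show p = 2 + (p - 2) by omega, pow_add, sq, DualNumber.eps_mul_eps]
      simp [Algebra.smul_def]
    have hcomp : (χ.comp φ).comp (Ideal.Quotient.mkₐ A I) = aeval (a₁ • DualNumber.eps : DualNumber A) := by
      apply Polynomial.algHom_ext
      rw [AlgHom.comp_apply, AlgHom.comp_apply, Ideal.Quotient.mkₐ_eq_mk, hy, aeval_X]
    have h := congrArg (fun f => TrivSqZeroExt.snd (f z)) hcomp
    simp only [AlgHom.comp_apply, Ideal.Quotient.mkₐ_eq_mk] at h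
    have hev : ∀ z : A[X], TrivSqZeroExt.snd (aeval (a₁ • DualNumber.eps : DualNumber A) z) = z.coeff 1 * a₁ := by
      intro z
      induction z using Polynomial.induction_on' with
      | add a b ha hb => simp [ha, hb, add_mul]
      | monomial n a =>
        rcases n with _ | _ | n
        · simp [aeval_monomial, TrivSqZeroExt.algebraMap_eq_inl]
        · simp [aeval_monomial, TrivSqZeroExt.algebraMap_eq_inl, Polynomial.coeff_monomial, mul_comm]
        · rw [aeval_monomial, pow_succ, pow_succ, mul_assoc (_ ^ n)]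
          simp [Polynomial.coeff_monomial, DualNumber.eps_mul_eps]
    rw [hev, show φ (Ideal.Quotient.mk I z) = Ideal.Quotient.mk I X from hz, hχ, aeval_X, DualNumber.snd_eps] at h
    exact IsUnit.of_mul_eq_one_right _ h.symm
  · intro hu
    obtain ⟨v, rfl⟩ := hu
    have hs : Function.Surjective φ := by
      rw [← AlgHom.range_eq_top]
      rw [eq_top_iff]
      intro w _
      obtain ⟨w, rfl⟩ := Ideal.Quotient.mk_surjective w
      induction w using Polynomial.induction_on with
      | C a => exact ⟨algebraMap A _ a, φ.commutes a⟩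
      | add a b ha hb =>
        rw [map_add]
        exact add_mem (ha trivial) (hb trivial)
      | monomial n a hn =>
        rw [pow_succ, ← mul_assoc, map_mul]
        refine mul_mem (hn trivial) ?_
        set x := Ideal.Quotient.mk I X
        have hxp : x ^ (p * p) = 0 := by
          rw [← map_pow, Ideal.Quotient.eq_zero_iff_mem, ← sq]
          rw [hIdef]
          exact Ideal.mem_span_singleton_self _
        haveI : ExpChar A[X] p := ExpChar.prime hp.out
        have hyp : φ x ^ p = Ideal.Quotient.mk I (C ((v : A) ^ p)) * x ^ p := by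
          rw [hφ, ← map_pow, add_pow_expChar, mul_pow, mul_pow, ← pow_mul, map_add, map_mul, map_mul, map_pow,
            map_pow (Ideal.Quotient.mk I) X (p * p), map_pow, map_pow, hxp, mul_zero, add_zero, map_pow, map_pow]
        have e2 : x = Ideal.Quotient.mk I (C ((↑v⁻¹ : A))) *
            (φ x - Ideal.Quotient.mk I (C (ap * (↑v⁻¹ : A) ^ p)) * φ x ^ p) := by
          rw [hyp, hφ, ← mul_assoc (Ideal.Quotient.mk I (C (ap * _))), ← map_mul, ← map_mul]
          rw [mul_assoc ap, ← mul_pow, v.inv_mul, one_pow, mul_one, map_add, map_mul, map_mul, map_pow]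
          rw [add_sub_cancel_right, ← mul_assoc, ← map_mul, ← map_mul, ← map_mul, v.inv_mul, map_one, one_mul]
        rw [e2]
        refine mul_mem ⟨_, φ.commutes _⟩ (sub_mem (φ.mem_range_self x) (mul_mem ⟨_, φ.commutes _⟩ (pow_mem (φ.mem_range_self x) _)))
    haveI : Module.Finite A (A[X] ⧸ I) := hIdef ▸ (Polynomial.monic_X_pow (R := A) (p ^ 2)).finite_quotient
    exact ⟨OrzechProperty.injective_of_surjective_endomorphism φ.toLinearMap hs, hs⟩

theorem bijective_iff (a₁ ap : A)
    (φ : (A[X] ⧸ Ideal.span ({X ^ p ^ 2} : Set A[X])) →ₐ[A] (A[X] ⧸ Ideal.span ({X ^ p ^ 2} : Set A[X])))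
    (hφ : φ (Ideal.Quotient.mk (Ideal.span ({X ^ p ^ 2} : Set A[X])) X) =
        Ideal.Quotient.mk (Ideal.span ({X ^ p ^ 2} : Set A[X])) (Polynomial.C a₁ * X + Polynomial.C ap * X ^ p)) :
    Function.Bijective φ ↔ IsUnit a₁ :=
  bijective_iff_aux a₁ ap _ rfl φ hφ

end Groth.Agent.GrpKer29.TruncPoly
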